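import Cfsg.Agent.H98.Held.Classify
import Cfsg.Agent.H95.Held.Bits
import Cfsg.Agent.H25.Held.Nwc

/-!
The symmetry of the centraliser of the transvection exchanging the two groups of order 64, and its effect on
the fusion masks.
-/

set_option autoImplicit false
set_option maxRecDepth 100000
set_option linter.style.haveILetI false

namespace Cfsg.Agent.H83.Held

open Cfsg.Agent.H98.Held Cfsg.Agent.H45.J4Mat Matrix Subgroup

universe u

/-- the permutation of the basis -/
def pm : Equiv.Perm (Fin 5) := Equiv.swap 0 1 * Equiv.swap 2 4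

theorem pm_pm : ∀ i, pm (pm i) = i := by decide

/-- the images of the basis -/
def pl : List ℕ := [1, 0, 4, 3, 2]

theorem pl_pm : ∀ i : Fin 5, pl.getD i.1 0 = (pm i).1 := by decide

/-- the code of the transposed and permuted matrix -/
def tp (a : ℕ) : ℕ :=
  Cfsg.Agent.H95.Held.pack (fun n => a.testBit (5 * pl.getD (n % 5) 0 + pl.getD (n / 5) 0)) 25

theorem tp_lt (a : ℕ) : tp a < 2 ^ 25 := by
  refine Nat.lt_pow_two_of_testBit _ fun i hi => ?_
  rw [tp, Cfsg.Agent.H95.Held.testBit_pack, decide_eq_false (by omega), Bool.false_and]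

theorem mt_tp (a : ℕ) : mt (tp a) = (mt a)ᵀ.submatrix pm pm := by
  ext i j
  show bz ((tp a).testBit (5 * i.1 + j.1)) = bz (a.testBit (5 * (pm j).1 + (pm i).1))
  rw [tp, Cfsg.Agent.H95.Held.testBit_pack, decide_eq_true (by omega), Bool.true_and,
    show (5 * i.1 + j.1) / 5 = i.1 by omega, show (5 * i.1 + j.1) % 5 = j.1 by omega, pl_pm, pl_pm]

abbrev SL5 : Type := Matrix.SpecialLinearGroup (Fin 5) (ZMod 2)

theorem det_flip (A : SL5) : ((A : M5)ᵀ.submatrix pm pm).det = 1 := by
  rw [Matrix.det_submatrix_equiv_self, Matrix.det_transpose, A.2]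

/-- transpose and permute -/
noncomputable def flipT (A : SL5) : SL5 := ⟨(A : M5)ᵀ.submatrix pm pm, det_flip A⟩

theorem flipT_mul (A B : SL5) : flipT (A * B) = flipT B * flipT A := by
  refine Subtype.ext ?_
  show ((A : M5) * (B : M5))ᵀ.submatrix pm pm = (B : M5)ᵀ.submatrix pm pm * (A : M5)ᵀ.submatrix pm pm
  rw [Matrix.transpose_mul, Matrix.submatrix_mul_equiv]

theorem flipT_flipT (A : SL5) : flipT (flipT A) = A := by
  refine Subtype.ext ?_
  ext i j
  show (A : M5) (pm (pm i)) (pm (pm j)) = (A : M5) i j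
  rw [pm_pm, pm_pm]

theorem flipT_one : flipT 1 = 1 := by
  refine Subtype.ext ?_
  show (1 : M5)ᵀ.submatrix pm pm = 1
  rw [Matrix.transpose_one, Matrix.submatrix_one_equiv]

/-- transpose-inverse, permuted -/
noncomputable def sigma : SL5 →* SL5 where
  toFun A := flipT A⁻¹
  map_one' := by rw [inv_one, flipT_one]
  map_mul' A B := by rw [_root_.mul_inv_rev, flipT_mul]

theorem flipT_inv (A : SL5) : flipT A⁻¹ = (flipT A)⁻¹ := by
  rw [eq_inv_iff_mul_eq_one, ← flipT_mul, mul_inv_cancel, flipT_one]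

theorem sigma_sigma (A : SL5) : sigma (sigma A) = A := by
  show flipT (flipT A⁻¹)⁻¹ = A
  rw [← flipT_inv, inv_inv, flipT_flipT]

theorem sigma_sT : sigma sT = sT := by
  have hs : (sT * sT : SL5) = 1 := by
    refine Subtype.ext ?_
    show Matrix.transvection (0 : Fin 5) 1 (1 : ZMod 2) * Matrix.transvection 0 1 1 = 1
    rw [Matrix.transvection_mul_transvection_same _ _ (by decide),
      show (1 : ZMod 2) + 1 = 0 by decide, Matrix.transvection_zero]
  show flipT sT⁻¹ = sT
  rw [inv_eq_of_mul_eq_one_right hs]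
  refine Subtype.ext ?_
  show (Matrix.transvection (0 : Fin 5) 1 (1 : ZMod 2))ᵀ.submatrix pm pm = _
  rw [← mt_zT, ← mt_tp, show tp zT = zT by decide +kernel, mt_zT]
  rfl

theorem sigma_mem {A : SL5} (h : A ∈ C5) : sigma A ∈ C5 := by
  rw [mem_centralizer_singleton_iff] at h ⊢
  have e := congrArg sigma h
  rwa [map_mul, map_mul, sigma_sT] at e

/-- the automorphism of the centraliser -/
noncomputable def sigC : C5 →* C5 where
  toFun x := ⟨sigma x.1, sigma_mem x.2⟩
  map_one' := Subtype.ext (map_one sigma)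
  map_mul' x y := Subtype.ext (map_mul sigma x.1 y.1)

theorem sigC_sigC (x : C5) : sigC (sigC x) = x := Subtype.ext (sigma_sigma x.1)

theorem cd_sigC {x : C5} {a : ℕ} (hx : cd x = a) (hinv : mm a a = oneC) : cd (sigC x) = tp a := by
  have hxx : x * x = 1 := cd_inj (by rw [cd_mul, hx, hinv, cd_one])
  refine mt_inj (code_lt _) (tp_lt _) ?_
  rw [mt_tp, cd, mt_code, ← hx, cd, mt_code]
  show ((flipT (x.1)⁻¹ : SL5) : M5) = _
  have e : (x.1 : SL5)⁻¹ = x.1 := inv_eq_of_mul_eq_one_right (congrArg Subtype.val hxx)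
  rw [e]
  rfl

theorem Gd_tp {a : ℕ} (h : Gd a) (hinv : mm a a = oneC) : Gd (tp a) := by
  obtain ⟨x, hx⟩ := h
  exact ⟨sigC x, cd_sigC hx hinv⟩

theorem zT_sq : mm zT zT = oneC := by decide +kernel

theorem tp_zT : tp zT = zT := by decide +kernel

variable {G : Type u} [Group G]

theorem range_comp_sigC (f : C5 →* G) (z : G) (h : f.range = centralizer ({z} : Set G)) :
    (f.comp sigC).range = centralizer ({z} : Set G) := by
  have hs : Function.Surjective sigC := fun x => ⟨sigC x, sigC_sigC x⟩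
  rw [← h, MonoidHom.range_comp, MonoidHom.range_eq_top.2 hs, ← MonoidHom.range_eq_map]

/-- the embedding composed with the symmetry -/
noncomputable def mirror (B : Emb G) : Emb G where
  z := B.z
  emb := B.emb.comp sigC
  inj x y h := by
    have e : sigC x = sigC y := B.inj h
    rw [← sigC_sigC x, e, sigC_sigC]
  range := range_comp_sigC B.emb B.z B.range
  z_eq x hx := B.z_eq (sigC x) ((cd_sigC hx zT_sq).trans tp_zT)

theorem mirror_z (B : Emb G) : (mirror B).z = B.z := by unfold mirror; rfl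

theorem mirror_emb (B : Emb G) (x : C5) : (mirror B).emb x = B.emb (sigC x) := by unfold mirror; rfl

attribute [irreducible] mirror

theorem lf_mirror (B : Emb G) {a : ℕ} (h : Gd a) (hinv : mm a a = oneC) :
    (mirror B).lf a = B.lf (tp a) := by
  obtain ⟨x, hx⟩ := h
  rw [← cd_sigC hx hinv, B.lf_cd, ← hx, (mirror B).lf_cd, mirror_emb]

theorem isZ_mirror (B : Emb G) {a : ℕ} (h : Gd a) (hinv : mm a a = oneC) :
    (mirror B).IsZ a ↔ B.IsZ (tp a) := by
  simp only [Emb.IsZ, lf_mirror B h hinv, mirror_z]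

/-- the permutation of the classes -/
def mirK (k : ℕ) : ℕ := [0, 2, 1, 3, 4, 5, 7, 6].getD k k

theorem mirror_check : ((List.range 8).all fun k =>
    Nat.beq (cls (tp (rep k))) (mirK k) && !(Nat.beq (tp (rep k)) oneC) &&
      Nat.beq (mm (tp (rep k)) (tp (rep k))) oneC && Nat.blt (mirK k) 8) = true := by
  decide +kernel

theorem isZ_mirror_rep (B : Emb G) {k : ℕ} (hk : k < 8) :
    (mirror B).IsZ (rep k) ↔ B.IsZ (rep (mirK k)) := by
  obtain ⟨hg, hs, -⟩ := rep_spec hk
  have h := List.all_eq_true.1 mirror_check k (List.mem_range.2 hk)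
  simp only [Bool.and_eq_true, Bool.not_eq_true', Nat.beq_eq, beq_ne] at h
  rw [isZ_mirror B hg hs, B.isZ_iff (Gd_tp hg hs) h.1.2 h.1.1.2, h.1.1.1]

theorem block_mirror_check :
    (aOne.all fun a => (aTwo.any fun b => Nat.beq b (tp a))) = true ∧
    (aTwo.all fun a => (aOne.any fun b => Nat.beq b (tp a))) = true ∧
    (aOne.all fun a => Nat.beq (tp (tp a)) a) = true ∧
    (aTwo.all fun a => Nat.beq (tp (tp a)) a) = true := by
  decide +kernel

theorem blockGrp_mirror (B : Emb G) {L L' : List ℕ} (hL : Block L)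
    (h1 : ∀ a ∈ L, tp a ∈ L') (h2 : ∀ a ∈ L', tp a ∈ L ∧ tp (tp a) = a) :
    (mirror B).blockGrp L = B.blockGrp L' := by
  unfold Emb.blockGrp
  congr 1
  ext g
  constructor
  · rintro ⟨a, ha, rfl⟩
    exact ⟨tp a, h1 a ha, (lf_mirror B (hL.sq a ha).1 (hL.sq a ha).2).symm⟩
  · rintro ⟨a, ha, rfl⟩
    obtain ⟨hb, e⟩ := h2 a ha
    exact ⟨tp a, hb, by rw [lf_mirror B (hL.sq _ hb).1 (hL.sq _ hb).2, e]⟩

theorem gA_mirror (B : Emb G) : (mirror B).gA = B.gB := by
  obtain ⟨c1, c2, -, c4⟩ := block_mirror_check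
  exact blockGrp_mirror B block_one.1 (fun a ha => mem_of_any (List.all_eq_true.1 c1 a ha))
    fun a ha => ⟨mem_of_any (List.all_eq_true.1 c2 a ha),
      Nat.eq_of_beq_eq_true (List.all_eq_true.1 c4 a ha)⟩

theorem gB_mirror (B : Emb G) : (mirror B).gB = B.gA := by
  obtain ⟨c1, c2, c3, -⟩ := block_mirror_check
  exact blockGrp_mirror B block_two.1 (fun a ha => mem_of_any (List.all_eq_true.1 c2 a ha))
    fun a ha => ⟨mem_of_any (List.all_eq_true.1 c1 a ha),
      Nat.eq_of_beq_eq_true (List.all_eq_true.1 c3 a ha)⟩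

/-- the mirrored mask -/
def mirMask (m : ℕ) : ℕ :=
  m / 2 % 2 + 2 * (m % 2) + 4 * (m / 4 % 2) + 8 * (m / 16 % 2) + 16 * (m / 8 % 2)

theorem mirMask_check : ((List.range 32).all fun m => (List.range 8).all fun k =>
    inK (mirMask m) k == inK m (mirK k)) = true := by
  decide +kernel

theorem live_check : (liveMasks.all fun m => Nat.blt m 32 && liveMasks.contains (mirMask m)) = true ∧
    mirMask 2 = 1 ∧ mirMask 15 = 23 := by
  decide +kernel

theorem mask_mirror (B : Emb G) {m : ℕ} (hm32 : m < 32)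
    (hm : ∀ k < 8, B.IsZ (rep k) ↔ inK m k = true) :
    ∀ k < 8, (mirror B).IsZ (rep k) ↔ inK (mirMask m) k = true := by
  intro k hk
  have h1 := List.all_eq_true.1 mirror_check k (List.mem_range.2 hk)
  simp only [Bool.and_eq_true, Bool.not_eq_true', Nat.beq_eq, beq_ne, Nat.blt_eq] at h1
  have h2 : inK (mirMask m) k = inK m (mirK k) := eq_of_beq
    (List.all_eq_true.1 (List.all_eq_true.1 mirMask_check m (List.mem_range.2 hm32)) k (List.mem_range.2 hk))
  rw [isZ_mirror_rep B hk, h2]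
  exact hm _ h1.2

/-- **Four cases.** After applying the symmetry if need be, the mask is 1 (point stabiliser), 7 (`SL(5,2)`),
23 (the Mathieu group) or 31 (the Held group). -/
theorem exists_normal_mask [Finite G] (B : Emb G) (hnwc : B.IsZ (rep 1) ∨ B.IsZ (rep 2)) :
    ∃ B' : Emb G, B'.z = B.z ∧ ∃ m ∈ [1, 7, 23, 31], ∀ k < 8, B'.IsZ (rep k) ↔ inK m k = true := by
  obtain ⟨m, hml, hm⟩ := B.exists_live_mask hnwc
  simp only [liveMasks, List.mem_cons, List.not_mem_nil, or_false] at hml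
  rcases hml with rfl | rfl | rfl | rfl | rfl | rfl
  · exact ⟨B, rfl, 1, by simp, hm⟩
  · exact ⟨mirror B, mirror_z B, 1, by simp, live_check.2.1 ▸ mask_mirror B (by norm_num) hm⟩
  · exact ⟨B, rfl, 7, by simp, hm⟩
  · exact ⟨mirror B, mirror_z B, 23, by simp, live_check.2.2 ▸ mask_mirror B (by norm_num) hm⟩
  · exact ⟨B, rfl, 23, by simp, hm⟩
  · exact ⟨B, rfl, 31, by simp, hm⟩

/-- The four cases in a simple group. -/
theorem exists_normal_mask_simple [Finite G] [IsSimpleGroup G] (B : Emb G) :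
    ∃ B' : Emb G, B'.z = B.z ∧ ∃ m ∈ [1, 7, 23, 31], ∀ k < 8, B'.IsZ (rep k) ↔ inK m k = true :=
  exists_normal_mask B (Cfsg.Agent.H25.Held.isZ_one_or_two B)

end Cfsg.Agent.H83.Held
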