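import Cfsg.Agent.H83.Held.Point
import Cfsg.Agent.H98.Held.Fusion
import Cfsg.Agent.H24.Gaschuetz
import Mathlib.GroupTheory.SemidirectProduct

/-!
A group with the fusion pattern of a point stabiliser is the point stabiliser.
-/

set_option autoImplicit false
set_option maxRecDepth 100000
set_option linter.style.haveILetI false

namespace Cfsg.Agent.H83.Held.Point

open Subgroup Cfsg.Agent.H98.Held Matrix

universe u

/-- the first row is the first unit vector -/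
noncomputable def rowSub : Subgroup C5 where
  carrier := {x | ∀ j : Fin 5, ((x : Matrix.SpecialLinearGroup (Fin 5) (ZMod 2)) : M5) 0 j = (1 : M5) 0 j}
  one_mem' := fun j => rfl
  mul_mem' := by
    intro x y hx hy j
    show (((x : Matrix.SpecialLinearGroup (Fin 5) (ZMod 2)) : M5) *
      ((y : Matrix.SpecialLinearGroup (Fin 5) (ZMod 2)) : M5)) 0 j = _
    rw [Matrix.mul_apply, Finset.sum_congr rfl (fun l _ => by rw [hx l]), ← Matrix.mul_apply, Matrix.one_mul]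
    exact hy j
  inv_mem' := by
    intro x hx j
    have h : ((x : Matrix.SpecialLinearGroup (Fin 5) (ZMod 2)) : M5) *
        (((x⁻¹ : C5) : Matrix.SpecialLinearGroup (Fin 5) (ZMod 2)) : M5) = 1 := by
      rw [← Matrix.SpecialLinearGroup.coe_mul, ← Subgroup.coe_mul, mul_inv_cancel]
      rfl
    have h2 := congrFun (congrFun h 0) j
    rw [Matrix.mul_apply, Finset.sum_congr rfl (fun l _ => by rw [hx l]), ← Matrix.mul_apply,
      Matrix.one_mul] at h2
    exact h2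

theorem row_of_code {x : C5} (h : cd x % 32 = 1) : x ∈ rowSub := by
  intro j
  have e : ((x : Matrix.SpecialLinearGroup (Fin 5) (ZMod 2)) : M5) = mt (cd x) := (mt_code _).symm
  rw [e, ← mt_one]
  show Cfsg.Agent.H45.J4Mat.bz ((cd x).testBit (5 * 0 + j.1)) =
    Cfsg.Agent.H45.J4Mat.bz (oneC.testBit (5 * 0 + j.1))
  have key : ∀ a : ℕ, a.testBit (5 * 0 + j.1) = (a % 2 ^ 5).testBit (5 * 0 + j.1) := fun a => by
    rw [Nat.testBit_mod_two_pow, decide_eq_true (by omega), Bool.true_and]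
  rw [key (cd x), key oneC, show (2 : ℕ) ^ 5 = 32 from rfl, h]
  rfl

theorem row_e : ∀ a ∈ eList, (∀ j : Fin 5, mt a 0 j = (1 : M5) 0 j) → a = oneC := by decide +kernel

/-- the elementary group in the centraliser -/
noncomputable def eC5 : Subgroup C5 where
  carrier := {x | cd x ∈ eList}
  one_mem' := show cd 1 ∈ eList by rw [cd_one]; exact e_one
  mul_mem' {x y} hx hy := show cd (x * y) ∈ eList by rw [cd_mul]; exact (e_closed hx hy).1
  inv_mem' {x} hx := by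
    have h : x * x = 1 := cd_inj (by rw [cd_mul, (e_sq hx).2, cd_one])
    rw [inv_eq_of_mul_eq_one_right h]
    exact hx

section General

variable {G : Type u} [Group G] (B : Emb G)

theorem eGrp_eq_map : eGrp B = eC5.map B.emb := by
  ext g
  constructor
  · rintro ⟨a, ha, rfl⟩
    obtain ⟨x, rfl⟩ := (e_sq ha).1
    exact ⟨x, ha, (B.lf_cd x).symm⟩
  · rintro ⟨x, hx, rfl⟩
    exact ⟨cd x, hx, B.lf_cd x⟩

/-- the elementary group is that of the centraliser -/
noncomputable def eEquiv : eC5 ≃* eGrp B :=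
  (eC5.equivMapOfInjective B.emb B.inj).trans (MulEquiv.subgroupCongr (eGrp_eq_map B).symm)

theorem cent_le {g : G} (h : ∀ v ∈ eGrp B, g * v = v * g) : g ∈ eGrp B := by
  obtain ⟨p, hp, rfl⟩ := B.exists_code (h B.z (z_mem B))
  obtain ⟨k, hk, rfl⟩ := exists_param hp.isC
  have hh := List.all_eq_true.1 cent_e_check k (List.mem_range.2 hk)
  simp only [Cfsg.Agent.H45.force_eq, Bool.or_eq_true, Bool.not_eq_true'] at hh
  refine lf_mem_eGrp B (mem_of_any (hh.resolve_left fun hf => ?_))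
  have : (eBas.all fun b => Nat.beq (mm (param k) b) (mm b (param k))) = true :=
    List.all_eq_true.2 fun b hb => by
      have hbE : b ∈ eList := mem_of_any (List.all_eq_true.1 e_check.2.2.2.2.2.2.2 b hb)
      rw [(B.lf_comm hp (e_sq hbE).1).1 (h _ (lf_mem_eGrp B hbE))]
      exact Nat.beq_refl _
  rw [this] at hf
  exact absurd hf (by simp)

theorem bas_mem : oneC + 4 ∈ eList ∧ oneC + 8 ∈ eList ∧ oneC + 16 ∈ eList := by decide +kernel

theorem exists_move (ψ : MulAut (eGrp B)) (hψ : (ψ ⟨B.z, z_mem B⟩ : G) = B.z) :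
    ∃ m ∈ rowSub.map B.emb, ∀ v : eGrp B, m⁻¹ * (v : G) * m = (ψ v : G) := by
  classical
  have hex : ∀ a : ℕ, ∃ b, a ∈ eList → (b ∈ eList ∧
      ∀ ha : B.lf a ∈ eGrp B, B.lf b = ((ψ ⟨B.lf a, ha⟩ : eGrp B) : G)) := by
    intro a
    by_cases ha : a ∈ eList
    · obtain ⟨b, hb, e⟩ := (ψ ⟨B.lf a, lf_mem_eGrp B ha⟩).2
      exact ⟨b, fun _ => ⟨hb, fun _ => e⟩⟩
    · exact ⟨0, fun h => absurd h ha⟩
  choose img himg using hex
  have hm1 : ∀ a ∈ eList, img a ∈ eList := fun a ha => (himg a ha).1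
  have hm2 : ∀ a (ha : a ∈ eList), B.lf (img a) = ((ψ ⟨B.lf a, lf_mem_eGrp B ha⟩ : eGrp B) : G) :=
    fun a ha => (himg a ha).2 _
  have hinj : ∀ a ∈ eList, ∀ b ∈ eList, a ≠ b → img a ≠ img b := by
    intro a ha b hb hne e
    have h := congrArg B.lf e
    rw [hm2 a ha, hm2 b hb] at h
    exact hne (B.lf_inj (e_sq ha).1 (e_sq hb).1 (congrArg Subtype.val (ψ.injective (Subtype.ext h))))
  have hmul : ∀ a ∈ eList, ∀ b ∈ eList, img (mm a b) = mm (img a) (img b) := by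
    intro a ha b hb
    obtain ⟨hab, -⟩ := e_closed ha hb
    refine B.lf_inj (e_sq (hm1 _ hab)).1 ((e_sq (hm1 a ha)).1.mul (e_sq (hm1 b hb)).1) ?_
    rw [hm2 _ hab, B.lf_mul (e_sq (hm1 a ha)).1 (e_sq (hm1 b hb)).1, hm2 a ha, hm2 b hb,
      ← Subgroup.coe_mul, ← map_mul]
    congr 2
    exact Subtype.ext (B.lf_mul (e_sq ha).1 (e_sq hb).1)
  have h1 : img oneC = oneC := by
    refine B.lf_inj (e_sq (hm1 _ e_one)).1 gd_one ?_
    have : (⟨B.lf oneC, lf_mem_eGrp B e_one⟩ : eGrp B) = 1 := Subtype.ext B.lf_one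
    rw [hm2 _ e_one, this, map_one, Subgroup.coe_one, B.lf_one]
  have hz : img zT = zT := by
    refine B.lf_inj (e_sq (hm1 _ e_z)).1 gd_zT ?_
    rw [hm2 _ e_z]
    exact ((congrArg (fun v => ((ψ v : eGrp B) : G)) (Subtype.ext B.lf_z)).trans hψ).trans B.lf_z.symm
  obtain ⟨b2, b3, b4⟩ := bas_mem
  have bz := e_z
  have hind : indep (img (oneC + 4)) (img (oneC + 8)) (img (oneC + 16)) = true := by
    have d1 := (e_closed bz b2).1
    have d2 := (e_closed bz b3).1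
    have d3 := (e_closed b2 b3).1
    have d4 := (e_closed d1 b3).1
    have ne' : ∀ a b c, a ∈ eList → b ∈ eList → img b = c → a ≠ b → img a ≠ c :=
      fun a b c ha hb hc hne => hc ▸ hinj a ha b hb hne
    have i1 : img (mm zT (oneC + 4)) = mm zT (img (oneC + 4)) := by rw [hmul _ bz _ b2, hz]
    have i2 : img (mm zT (oneC + 8)) = mm zT (img (oneC + 8)) := by rw [hmul _ bz _ b3, hz]
    have i3 := hmul _ b2 _ b3
    have i4 : img (mm (mm zT (oneC + 4)) (oneC + 8)) =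
        mm (mm zT (img (oneC + 4))) (img (oneC + 8)) := by rw [hmul _ d1 _ b3, i1]
    simp only [indep, Bool.and_eq_true, Bool.not_eq_true', beq_ne]
    refine ⟨⟨⟨⟨⟨⟨⟨⟨⟨⟨⟨⟨⟨ne' _ _ _ b2 e_one h1 ?_, ne' _ _ _ b2 bz hz ?_⟩, ne' _ _ _ b3 e_one h1 ?_⟩,
      ne' _ _ _ b3 bz hz ?_⟩, ne' _ _ _ b3 b2 rfl ?_⟩, ne' _ _ _ b3 d1 i1 ?_⟩, ne' _ _ _ b4 e_one h1 ?_⟩,
      ne' _ _ _ b4 bz hz ?_⟩, ne' _ _ _ b4 b2 rfl ?_⟩, ne' _ _ _ b4 d1 i1 ?_⟩, ne' _ _ _ b4 b3 rfl ?_⟩,
      ne' _ _ _ b4 d2 i2 ?_⟩, ne' _ _ _ b4 d3 i3 ?_⟩, ne' _ _ _ b4 d4 i4 ?_⟩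
    all_goals decide +kernel
  have hchk := List.all_eq_true.1 (List.all_eq_true.1 (List.all_eq_true.1 move_check _ (hm1 _ b2)) _
    (hm1 _ b3)) _ (hm1 _ b4)
  rw [hind] at hchk
  simp only [Bool.not_true, Bool.false_or, Cfsg.Agent.H45.force_eq, Bool.and_eq_true, Nat.beq_eq] at hchk
  obtain ⟨⟨⟨⟨⟨hgd, hrow⟩, e1⟩, e2⟩, e3⟩, e4⟩ := hchk
  set q := mCode (img (oneC + 4)) (img (oneC + 8)) (img (oneC + 16))
  obtain ⟨x, hx⟩ := gd_of_gdB hgd
  refine ⟨B.lf q, ⟨x, row_of_code (hx.symm ▸ hrow), by rw [← hx, B.lf_cd]⟩, ?_⟩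
  have key : ∀ a, a ∈ eList → mm a q = mm q (img a) → (B.lf q)⁻¹ * B.lf a * B.lf q = B.lf (img a) := by
    intro a ha e
    rw [mul_assoc, ← B.lf_mul (e_sq ha).1 (gd_of_gdB hgd), e,
      B.lf_mul (gd_of_gdB hgd) (e_sq (hm1 a ha)).1, inv_mul_cancel_left]
  have kmul : ∀ a b, a ∈ eList → b ∈ eList →
      (B.lf q)⁻¹ * B.lf a * B.lf q = B.lf (img a) → (B.lf q)⁻¹ * B.lf b * B.lf q = B.lf (img b) →
      mm a b ∈ eList ∧ (B.lf q)⁻¹ * B.lf (mm a b) * B.lf q = B.lf (img (mm a b)) := by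
    intro a b ha hb ea eb
    refine ⟨(e_closed ha hb).1, ?_⟩
    rw [hmul a ha b hb, B.lf_mul (e_sq ha).1 (e_sq hb).1, B.lf_mul (e_sq (hm1 a ha)).1 (e_sq (hm1 b hb)).1,
      ← ea, ← eb]
    group
  have kone : (B.lf q)⁻¹ * B.lf oneC * B.lf q = B.lf (img oneC) := by
    rw [h1, B.lf_one]; group
  have k1 : ∀ b ∈ [oneC, oneC + 2], b ∈ eList ∧ (B.lf q)⁻¹ * B.lf b * B.lf q = B.lf (img b) := by
    intro b hb
    simp only [List.mem_cons, List.not_mem_nil, or_false] at hb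
    rcases hb with rfl | rfl
    · exact ⟨e_one, kone⟩
    · exact ⟨e_z, key zT e_z (by rw [hz]; exact e1)⟩
  have k2 : ∀ c, c ∈ eList → mm c q = mm q (img c) → ∀ b ∈ [oneC, c],
      b ∈ eList ∧ (B.lf q)⁻¹ * B.lf b * B.lf q = B.lf (img b) := by
    intro c hc e b hb
    simp only [List.mem_cons, List.not_mem_nil, or_false] at hb
    rcases hb with rfl | rfl
    · exact ⟨e_one, kone⟩
    · exact ⟨hc, key _ hc e⟩
  rintro ⟨_, a, ha, rfl⟩
  have hsp := List.all_eq_true.1 span_check a ha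
  simp only [List.any_eq_true, Nat.beq_eq] at hsp
  obtain ⟨c1, h1', c2, h2', c3, h3', c4, h4', rfl⟩ := hsp
  obtain ⟨q1, w1⟩ := k1 c1 h1'
  obtain ⟨q2, w2⟩ := k2 _ b2 e2 c2 h2'
  obtain ⟨q3, w3⟩ := k2 _ b3 e3 c3 h3'
  obtain ⟨q4, w4⟩ := k2 _ b4 e4 c4 h4'
  obtain ⟨q12, w12⟩ := kmul _ _ q1 q2 w1 w2
  obtain ⟨q123, w123⟩ := kmul _ _ q12 q3 w12 w3
  obtain ⟨q1234, w1234⟩ := kmul _ _ q123 q4 w123 w4
  exact w1234.trans (hm2 _ q1234)

variable [Finite G] (hm : ∀ k < 8, B.IsZ (rep k) ↔ inK 1 k = true)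
include hm

/-- **Splitting.** The group is the holomorph of the elementary group of order 16. -/
theorem iso_holomorph : Nonempty (G ≃* eGrp B ⋊[MonoidHom.id _] MulAut (eGrp B)) := by
  classical
  haveI : Fact (Nat.Prime 2) := ⟨Nat.prime_two⟩
  haveI hEn : (eGrp B).Normal := normalizer_eq_top_iff.1 (normalizer_eq_top B hm)
  set ρ : G →* MulAut (eGrp B) := MulAut.conjNormal with hρ
  have hker : ∀ g, ρ g = 1 ↔ g ∈ eGrp B := by
    intro g
    constructor
    · intro h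
      refine cent_le B fun v hv => ?_
      have h2 := congrArg (fun σ : MulAut (eGrp B) => ((σ ⟨v, hv⟩ : eGrp B) : G)) h
      simp only [ρ, MulAut.conjNormal_apply, MulAut.one_apply] at h2
      calc g * v = g * v * g⁻¹ * g := by group
        _ = v * g := by rw [h2]
    · intro hg
      ext v
      rw [hρ, MulAut.conjNormal_apply, MulAut.one_apply, eGrp_comm B hg v.2, mul_inv_cancel_right]
  have hfix : ∀ ψ : MulAut (eGrp B), (ψ ⟨B.z, z_mem B⟩ : G) = B.z →
      ∃ m ∈ rowSub.map B.emb, ρ m⁻¹ = ψ := by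
    intro ψ hψ
    obtain ⟨m, hmm, hv⟩ := exists_move B ψ hψ
    refine ⟨m, hmm, ?_⟩
    ext v
    rw [hρ, MulAut.conjNormal_apply, inv_inv]
    exact hv v
  have hsurj : Function.Surjective ρ := by
    intro ψ
    have hy := (ψ ⟨B.z, z_mem B⟩).2
    have hy1 : (ψ ⟨B.z, z_mem B⟩ : G) ≠ 1 := fun h => B.z_ne
      (congrArg Subtype.val (ψ.injective (a₁ := ⟨B.z, z_mem B⟩) (a₂ := 1) (by rw [map_one]; exact Subtype.ext h)))
    obtain ⟨g, hg⟩ := isConj_iff.1 (isConj_of_mem B hm hy hy1)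
    obtain ⟨m, -, e⟩ := hfix (ρ g⁻¹ * ψ) (by
      rw [MulAut.mul_apply, hρ, MulAut.conjNormal_apply, inv_inv, ← hg]; group)
    exact ⟨g * m⁻¹, by rw [map_mul, e, ← mul_assoc, ← map_mul, mul_inv_cancel, map_one, one_mul]⟩
  set U := centralizer ({B.z} : Set G)
  set A := rowSub.map B.emb
  have hAU : A ≤ U := by
    rintro _ ⟨x, -, rfl⟩
    rw [← B.lf_cd]
    exact B.lf_mem ⟨x, rfl⟩
  have hEU : eGrp B ≤ U := fun v hv => mem_centralizer_singleton_iff.2 (eGrp_comm B hv (z_mem B))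
  have S : Cfsg.Agent.H24.Gaschuetz.Setup (eGrp B) U A := by
    refine ⟨hEn, ⟨⟨fun a b => Subtype.ext (eGrp_comm B a.2 b.2)⟩⟩, hEU, hAU, ?_, ?_⟩
    · rw [Subgroup.eq_bot_iff_forall]
      rintro _ ⟨⟨x, hx, rfl⟩, a, ha, e⟩
      rw [← B.lf_cd] at e
      have hax : a = cd x := B.lf_inj (e_sq ha).1 ⟨x, rfl⟩ e
      have h1 : a = oneC := row_e a ha fun j => by rw [hax, cd, mt_code]; exact hx j
      rw [← B.lf_cd, ← hax, h1, B.lf_one]
    · refine le_antisymm (sup_le hEU hAU) fun c hc => ?_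
      have hcz := mem_centralizer_singleton_iff.1 hc
      obtain ⟨m, hmA, e⟩ := hfix (ρ c) (by
        rw [hρ, MulAut.conjNormal_apply]
        show c * B.z * c⁻¹ = B.z
        rw [hcz, mul_inv_cancel_right])
      have h1 : c * m ∈ eGrp B := (hker _).1 (by rw [map_mul, ← e, ← map_mul, inv_mul_cancel, map_one])
      have h2 : c = c * m * m⁻¹ := by group
      rw [h2]
      exact mul_mem (mem_sup_left h1) (mem_sup_right (inv_mem hmA))
  have hcop : (Nat.card (eGrp B)).Coprime U.index := by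
    have hp : IsPGroup 2 (eGrp B) := fun v =>
      ⟨1, Subtype.ext (by rw [pow_one, pow_two]; exact eGrp_sq B v.2)⟩
    obtain ⟨n, hn⟩ := IsPGroup.iff_card.1 hp
    obtain ⟨T, hT⟩ := B.exists_sylow
    have hTU : (T : Subgroup G) ≤ U := fun g hg => B.sg_le (hT ▸ hg)
    have hodd : ¬ 2 ∣ U.index := fun h => T.not_dvd_index (h.trans (index_dvd_of_le hTU))
    rw [hn]
    exact Nat.Coprime.pow_left _ ((Nat.prime_two.coprime_iff_not_dvd).2 hodd)
  obtain ⟨K, hK⟩ := Cfsg.Agent.H24.Gaschuetz.exists_complement S hcop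
  have hbij : Function.Bijective (ρ.comp K.subtype) := by
    constructor
    · rw [injective_iff_map_eq_one]
      intro k hk
      have hE : (k : G) ∈ eGrp B := (hker _).1 hk
      exact Subtype.ext ((Subgroup.eq_bot_iff_forall _).1 hK.disjoint.eq_bot _ ⟨hE, k.2⟩)
    · intro ψ
      obtain ⟨g, rfl⟩ := hsurj ψ
      obtain ⟨⟨⟨v, hv⟩, k⟩, rfl⟩ := hK.2 g
      exact ⟨k, by simp [(hker v).2 hv]⟩
  refine ⟨(SemidirectProduct.mulEquivSubgroup hK).symm.trans
    (SemidirectProduct.congr (MulEquiv.refl _) (MulEquiv.ofBijective _ hbij) fun k => ?_)⟩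
  ext v
  rfl

end General

/-- Two groups with this fusion pattern are isomorphic. -/
theorem iso_of_pattern {G : Type u} [Group G] [Finite G] {H : Type*} [Group H] [Finite H]
    (B : Emb G) (hB : ∀ k < 8, B.IsZ (rep k) ↔ inK 1 k = true)
    (B' : Emb H) (hB' : ∀ k < 8, B'.IsZ (rep k) ↔ inK 1 k = true) : Nonempty (G ≃* H) := by
  obtain ⟨a⟩ := iso_holomorph B hB
  obtain ⟨b⟩ := iso_holomorph B' hB'
  let φ : eGrp B ≃* eGrp B' := (eEquiv B).symm.trans (eEquiv B')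
  refine ⟨a.trans ((SemidirectProduct.congr φ (MulAut.congr φ) fun σ => ?_).trans b.symm)⟩
  ext v
  simp [MulAut.congr]

/-- the vector -/
def v0 : Fin 5 → ZMod 2 := Pi.single 0 1

theorem v0_ne : v0 ≠ 0 := by decide

/-- the point stabiliser -/
abbrev St : Subgroup (Matrix.SpecialLinearGroup (Fin 5) (ZMod 2)) :=
  MulAction.stabilizer (Matrix.SpecialLinearGroup (Fin 5) (ZMod 2)) v0

theorem mem_St {A : Matrix.SpecialLinearGroup (Fin 5) (ZMod 2)} :
    A ∈ St ↔ ∀ i, (A : M5) i 0 = (1 : M5) i 0 := by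
  rw [MulAction.mem_stabilizer_iff, funext_iff]
  refine forall_congr' fun i => ?_
  show ((A : M5) *ᵥ Pi.single 0 1) i = (Pi.single 0 1 : Fin 5 → ZMod 2) i ↔ _
  rw [Matrix.mulVec_single_one, Matrix.one_apply, Pi.single_apply]
  rfl

theorem C5_le_St : C5 ≤ St := by
  intro A hA
  rw [mem_St]
  intro i
  have hisC := isC_cd ⟨A, hA⟩
  rw [show (A : M5) = mt (cd ⟨A, hA⟩) from (mt_code _).symm]
  simp only [isC, Bool.and_eq_true, decide_eq_true_eq] at hisC
  obtain ⟨⟨⟨⟨⟨-, e0⟩, e1⟩, e2⟩, e3⟩, e4⟩ := hisC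
  show Cfsg.Agent.H45.J4Mat.bz ((cd ⟨A, hA⟩).testBit (5 * i.1 + 0)) = _
  generalize cd ⟨A, hA⟩ = a at *
  rw [Nat.testBit_eq_decide_div_mod_eq]
  fin_cases i
  · norm_num [e0]; rfl
  · have : a / 32 % 2 = 0 := by omega
    norm_num [this]; rfl
  · norm_num [e2]; rfl
  · norm_num [e3]; rfl
  · norm_num [e4]; rfl

/-- the embedding into the point stabiliser -/
noncomputable def stEmb : Emb St where
  z := ⟨sT, C5_le_St (mem_centralizer_singleton_iff.2 rfl)⟩
  emb := Subgroup.inclusion C5_le_St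
  inj := Subgroup.inclusion_injective _
  range := by
    ext g
    rw [mem_centralizer_singleton_iff]
    constructor
    · rintro ⟨x, rfl⟩
      exact Subtype.ext (mem_centralizer_singleton_iff.1 x.2)
    · intro hg
      exact ⟨⟨g.1, mem_centralizer_singleton_iff.2 (congrArg Subtype.val hg)⟩, rfl⟩
  z_eq x hx := by
    refine Subtype.ext (Subtype.ext ?_)
    show ((x : Matrix.SpecialLinearGroup (Fin 5) (ZMod 2)) : M5) = Matrix.transvection 0 1 1
    rw [← mt_code ((x : Matrix.SpecialLinearGroup (Fin 5) (ZMod 2)) : M5)]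
    show mt (cd x) = _
    rw [hx, mt_zT]

/-- the transvections with the given centre -/
def InE (A : M5) : Prop := ∀ i j : Fin 5, i ≠ 0 → A i j = (1 : M5) i j

instance (A : M5) : Decidable (InE A) :=
  decidable_of_iff (∀ i : Fin 5, i = 0 ∨ (fun j => A i j) = fun j => (1 : M5) i j)
    ⟨fun h i j hi => congrFun ((h i).resolve_left hi) j,
      fun h i => or_iff_not_imp_left.2 fun hi => funext fun j => h i j hi⟩

theorem InE_conj {g A : Matrix.SpecialLinearGroup (Fin 5) (ZMod 2)} (hg : g ∈ St) (hA : InE (A : M5)) :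
    InE ((g * A * g⁻¹ : Matrix.SpecialLinearGroup (Fin 5) (ZMod 2)) : M5) := by
  intro i j hi
  have hg0 : (g : M5) i 0 = 0 := by rw [mem_St.1 hg i, Matrix.one_apply_ne hi]
  have e : ∀ l, ((g : M5) * (A : M5)) i l = (g : M5) i l := by
    intro l
    rw [Matrix.mul_apply]
    calc ∑ k, (g : M5) i k * (A : M5) k l = ∑ k, (g : M5) i k * (1 : M5) k l := by
          refine Finset.sum_congr rfl fun k _ => ?_
          rcases eq_or_ne k 0 with rfl | hk
          · simp [hg0]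
          · rw [hA k l hk]
      _ = (g : M5) i l := by rw [← Matrix.mul_apply, Matrix.mul_one]
  rw [Matrix.SpecialLinearGroup.coe_mul, Matrix.SpecialLinearGroup.coe_mul, Matrix.mul_apply,
    Finset.sum_congr rfl (fun l _ => by rw [e l]), ← Matrix.mul_apply, ← Matrix.SpecialLinearGroup.coe_mul,
    mul_inv_cancel]
  rfl

theorem InE_zT : InE (mt zT) := by decide +kernel

theorem not_InE : ∀ k < 8, 2 ≤ k → ¬ InE (mt (rep k)) := by decide +kernel

/-- the witness -/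
def wCode : ℕ := 1 + 8 * 32 + 4 * 1024 + 2 * 32768 + 16 * 1048576

theorem w_check : mm wCode wCode = oneC ∧ mm wCode zT = mm (rep 1) wCode ∧
    (∀ i : Fin 5, mt wCode i 0 = (1 : M5) i 0) ∧ rep 0 = zT := by decide +kernel

theorem mt_lf {a : ℕ} (h : Gd a) :
    (((stEmb.lf a : St) : Matrix.SpecialLinearGroup (Fin 5) (ZMod 2)) : M5) = mt a := by
  obtain ⟨x, rfl⟩ := h
  rw [stEmb.lf_cd, cd, mt_code]
  rfl

theorem stEmb_mask : ∀ k < 8, stEmb.IsZ (rep k) ↔ inK 1 k = true := by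
  intro k hk
  have hin : inK 1 k = true ↔ k = 0 ∨ k = 1 := by
    interval_cases k <;> simp [inK, Nat.testBit_eq_decide_div_mod_eq]
  rw [hin]
  constructor
  · intro h
    by_contra hne
    obtain ⟨g, hg⟩ := isConj_iff.1 h
    refine not_InE k hk (by omega) ?_
    rw [← mt_lf (rep_spec hk).1, ← hg]
    refine InE_conj g.2 ?_
    show InE (((stEmb.z : St) : Matrix.SpecialLinearGroup (Fin 5) (ZMod 2)) : M5)
    rw [← stEmb.lf_z, mt_lf gd_zT]
    exact InE_zT
  · obtain ⟨h2, hc, hcol, h0⟩ := w_check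
    rintro (rfl | rfl)
    · exact stEmb.isZ_zero
    have hd : (mt wCode).det = 1 := by
      have h := congrArg Matrix.det (congrArg Cfsg.Agent.H98.Held.mt h2)
      rw [mt_mm, mt_one, Matrix.det_mul, Matrix.det_one] at h
      revert h
      generalize (mt wCode).det = d
      revert d; decide
    let w : St := ⟨⟨mt wCode, hd⟩, mem_St.2 hcol⟩
    refine isConj_iff.2 ⟨w, ?_⟩
    rw [← stEmb.lf_z, mul_inv_eq_iff_eq_mul]
    refine Subtype.ext (Subtype.ext ?_)
    show mt wCode * (((stEmb.lf zT : St) : Matrix.SpecialLinearGroup (Fin 5) (ZMod 2)) : M5) =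
      (((stEmb.lf (rep 1) : St) : Matrix.SpecialLinearGroup (Fin 5) (ZMod 2)) : M5) * mt wCode
    rw [mt_lf gd_zT, mt_lf (rep_spec (by norm_num)).1, ← mt_mm, ← mt_mm, hc]

/-- **The point stabiliser case.** -/
theorem point_case {G : Type u} [Group G] [Finite G] (B : Emb G)
    (hm : ∀ k < 8, B.IsZ (rep k) ↔ inK 1 k = true) :
    ∃ v : Fin 5 → ZMod 2, v ≠ 0 ∧
      Nonempty (G ≃* MulAction.stabilizer (Matrix.SpecialLinearGroup (Fin 5) (ZMod 2)) v) :=
  ⟨v0, v0_ne, iso_of_pattern B hm stEmb stEmb_mask⟩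

/-- A group in the point stabiliser case is not simple. -/
theorem not_simple {G : Type u} [Group G] [Finite G] (B : Emb G)
    (hm : ∀ k < 8, B.IsZ (rep k) ↔ inK 1 k = true) : ¬ IsSimpleGroup G := by
  intro hs
  haveI hEn : (eGrp B).Normal := normalizer_eq_top_iff.1 (normalizer_eq_top B hm)
  rcases hEn.eq_bot_or_eq_top with h | h
  · exact B.z_ne (mem_bot.1 (h ▸ z_mem B))
  · obtain ⟨a, ha, e⟩ : B.lf uCode ∈ eGrp B := h ▸ mem_top _
    have hu := gd_of_gdB u_check.1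
    rw [B.lf_inj (e_sq ha).1 hu e] at ha
    have : memE uCode = true := any_of_mem ha
    rw [u_check.2.2.1] at this
    exact absurd this (by simp)

end Cfsg.Agent.H83.Held.Point
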