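import Cfsg.Agent.H83.Held.Cert
import Cfsg.Agent.H95.Held.Graph
import Cfsg.Agent.Golay.Mathieu
import Cfsg.Agent.Golay.Systems

/-!
Identification of the Mathieu group on 24 points from seven involutions satisfying the relators of the
certificate.
-/

set_option autoImplicit false
set_option maxRecDepth 100000
set_option linter.style.haveILetI false

namespace Cfsg.Agent.H83.Held.M24

open Cfsg Cfsg.Agent.H45 Cfsg.Agent.Golay
open scoped Pointwise

universe u

/-- the group of the code -/
abbrev M : Type := ↥Cfsg.M24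

/-- the table of a letter -/
def tbl (l : ℕ) : ℕ := tbls.getD l idTblVal

/-- the table of a word -/
def prodT (w : List ℕ) : ℕ := w.foldr (fun l acc => tblMul (tbl l) acc) idTblVal

theorem tbls_ok : (tbls.all fun t => inM24 t && tblEq (tblMul t t) idTblVal) = true := by
  decide +kernel

theorem idTblVal_ok : inM24 idTblVal = true ∧ tblEq (tblMul idTblVal idTblVal) idTblVal = true := by
  decide +kernel

theorem idTblVal_eq : idTbl = idTblVal := gen_tables.2.2.2.2.2.2.2

theorem tbl_ok (l : ℕ) : inM24 (tbl l) = true ∧ tblEq (tblMul (tbl l) (tbl l)) idTblVal = true := by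
  unfold tbl
  rw [List.getD_eq_getElem?_getD]
  cases h : tbls[l]? with
  | none => exact idTblVal_ok
  | some t =>
    exact (Bool.and_eq_true _ _).mp (List.all_eq_true.1 tbls_ok t (List.mem_of_getElem? h))

theorem valid_tbl (l : ℕ) : validT (tbl l) = true := validT_of_inM24 (tbl_ok l).1

/-- a letter in the model -/
noncomputable def bl (l : ℕ) : M := ⟨mkPerm (tbl l), mem_M24_of_inM24 (tbl_ok l).1⟩

theorem mkPerm_id : mkPerm idTblVal = 1 := by rw [← idTblVal_eq]; exact idTbl_spec.2

theorem valid_id : validT idTblVal = true := validT_of_inM24 idTblVal_ok.1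

theorem bl_mul_self (l : ℕ) : bl l * bl l = 1 := by
  refine Subtype.ext ?_
  show mkPerm (tbl l) * mkPerm (tbl l) = 1
  obtain ⟨hv, e⟩ := tblMul_spec (valid_tbl l) (valid_tbl l)
  rw [← e, mkPerm_eq_of_tblEq hv valid_id (tbl_ok l).2, mkPerm_id]

theorem bl_inv (l : ℕ) : (bl l)⁻¹ = bl l := inv_eq_of_mul_eq_one_right (bl_mul_self l)

theorem prodT_spec : ∀ w : List ℕ,
    validT (prodT w) = true ∧ mkPerm (prodT w) = ((evalW bl w : M) : Equiv.Perm GolayPt) := by
  intro w
  induction w with
  | nil => exact ⟨valid_id, by rw [evalW_nil]; exact mkPerm_id⟩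
  | cons x w ih =>
    obtain ⟨hv, e⟩ := tblMul_spec (valid_tbl x) ih.1
    refine ⟨hv, ?_⟩
    show mkPerm (tblMul (tbl x) (prodT w)) = _
    rw [e, ih.2, evalW_cons]
    rfl

theorem rels_val : (rels.all fun w => tblEq (prodT w) idTblVal) = true := by decide +kernel

theorem rel_bl (w : List ℕ) (hw : w ∈ rels) : evalW bl w = 1 := by
  obtain ⟨hv, e⟩ := prodT_spec w
  refine Subtype.ext ?_
  rw [← e, mkPerm_eq_of_tblEq hv valid_id (List.all_eq_true.1 rels_val w hw), mkPerm_id]
  rfl

theorem genWords_val :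
    (genWords.all fun w => w.all fun l => Nat.blt l 7) = true ∧
      tblEq (prodT (genWords.getD 0 [])) translTbl = true ∧
      tblEq (prodT (genWords.getD 1 [])) projInvTbl = true ∧
      tblEq (prodT (genWords.getD 2 [])) cubeTwistTbl = true := by
  decide +kernel

theorem gen_bl : Subgroup.closure {s : M | ∃ l, l < dat.L ∧ bl l = s} = ⊤ := by
  set K := Subgroup.closure {s : M | ∃ l, l < dat.L ∧ bl l = s}
  obtain ⟨hr, h1, h2, h3⟩ := genWords_val
  have hmem : ∀ i < 3, evalW bl (genWords.getD i []) ∈ K := by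
    intro i hi
    refine Subgroup.list_prod_mem _ fun x hx => ?_
    obtain ⟨l, hl, rfl⟩ := List.mem_map.1 hx
    have hlen : i < genWords.length := hi
    rw [List.getD_eq_getElem?_getD, List.getElem?_eq_getElem hlen] at hl
    exact Subgroup.subset_closure
      ⟨l, Nat.le_of_ble_eq_true (List.all_eq_true.1 (List.all_eq_true.1 hr _ (List.getElem_mem _)) l hl), rfl⟩
  obtain ⟨v1, v2, v3, -, e1, e2, e3, -⟩ := gen_tables
  have key : ∀ (i T : ℕ) (σ : Equiv.Perm GolayPt), i < 3 → validT T = true → mkPerm T = σ →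
      tblEq (prodT (genWords.getD i [])) T = true → σ ∈ K.map (Subgroup.subtype _) := by
    intro i T σ hi hT hσ he
    obtain ⟨hv, e⟩ := prodT_spec (genWords.getD i [])
    refine ⟨_, hmem i hi, ?_⟩
    show ((evalW bl (genWords.getD i []) : M) : Equiv.Perm GolayPt) = σ
    rw [← e, mkPerm_eq_of_tblEq hv hT he, hσ]
  have hle : Cfsg.M24 ≤ K.map (Subgroup.subtype _) := by
    refine closure_eq_M24.symm.le.trans ((Subgroup.closure_le _).2 ?_)
    rintro σ (rfl | rfl | rfl)
    · exact key 0 _ _ (by norm_num) v1 (by rw [← e1, mkPerm_tblOf]) h1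
    · exact key 1 _ _ (by norm_num) v2 (by rw [← e2, mkPerm_tblOf]) h2
    · exact key 2 _ _ (by norm_num) v3 (by rw [← e3, ← tblOf_cubeTwist, mkPerm_tblOf]) h3
  rw [eq_top_iff]
  intro s _
  obtain ⟨k, hk, e⟩ := hle s.2
  exact Subtype.ext e ▸ hk

theorem trio0_ok : H95.isTrioB trio0 = true ∧
    (sub.all fun l => H95.fixSys (tbl l) trio0) = true := by
  decide +kernel

theorem card_sub_le :
    3795 * Nat.card ↥(Subgroup.closure {s : M | ∃ l ∈ sub, bl l = s}) ≤ Nat.card M := by
  classical
  set T₀ := H95.sysOf trio0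
  have hT₀ : T₀ ∈ trios := H95.trio_of_isTrioB trio0_ok.1
  have horb : MulAction.orbit M T₀ = trios := by
    refine Set.ext fun T => ⟨?_, fun hT => H95.exists_smul_trio_pair hT₀ hT⟩
    rintro ⟨g, rfl⟩
    exact H95.trios_smul g _ hT₀
  have hle : Subgroup.closure {s : M | ∃ l ∈ sub, bl l = s} ≤ MulAction.stabilizer M T₀ := by
    refine (Subgroup.closure_le _).2 ?_
    rintro _ ⟨l, hl, rfl⟩
    exact H95.smul_eq_of_fixSys (valid_tbl l) (List.all_eq_true.1 trio0_ok.2 l hl)
  have h := Subgroup.card_mul_index (MulAction.stabilizer M T₀)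
  rw [MulAction.index_stabilizer, horb, ncard_trios] at h
  rw [← h, mul_comm]
  exact Nat.mul_le_mul_right _ (Subgroup.card_le_of_le hle)

theorem iv_eq (l : ℕ) : linv dat.iv l = l := by
  show linv (List.range 7) l = l
  unfold linv
  rcases Nat.lt_or_ge l 7 with h | h
  · simp [List.getD_eq_getElem?_getD, h]
  · simp [List.getD_eq_getElem?_getD,
      List.getElem?_eq_none (by simpa using h : (List.range 7).length ≤ l)]

theorem tget_lt : ∀ i, i < 3795 → ∀ l, l < dat.L → tget dat.cols i l < 3795 := fun i hi l hl =>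
  (colOK_sound (List.all_eq_true.1 cols_ok l (List.mem_range.2 hl)) i hi).1

/-- a letter in a group -/
def al {G : Type u} [Group G] (a : Fin 7 → G) (l : ℕ) : G := if h : l < 7 then a ⟨l, h⟩ else 1

/-- **The Mathieu group on 24 points from the certificate.** Seven involutions (or ones) satisfying the
twenty relators, the letters of the trio stabiliser matching those of the model, generate the group if
they generate a nontrivial group. -/
theorem iso_M24 {G : Type u} [Group G] (a : Fin 7 → G) (hsq : ∀ l, a l * a l = 1)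
    (hrel : ∀ w ∈ rels, evalW (al a) w = 1) (hgen : Subgroup.closure (Set.range a) = ⊤)
    (f : ↥(Subgroup.closure {s : M | ∃ l ∈ sub, bl l = s}) →* G)
    (hf : ∀ l (hl : l ∈ sub), f ⟨bl l, Subgroup.subset_closure ⟨l, hl, rfl⟩⟩ = al a l)
    (hne : ∃ g : G, g ≠ 1) : Nonempty (G ≃* M) := by
  haveI : IsSimpleGroup M := isSimpleGroup_M24
  refine H95.Held.iso_of_cert (D := dat) close_ok (by norm_num) tget_lt
    (fun l hl => by rw [iv_eq]; exact hl) sub rfl (al a) bl (fun l => ?_)
    (fun l => by rw [iv_eq]; exact (bl_inv l).symm) hrel rel_bl card_sub_le gen_bl ?_ f hf hne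
  · rw [iv_eq, eq_inv_iff_mul_eq_one, al]
    split
    · exact hsq _
    · exact one_mul 1
  · rw [← hgen]
    congr 1
    ext g
    constructor
    · rintro ⟨l, hl, rfl⟩
      exact ⟨⟨l, hl⟩, by rw [al, dif_pos (show l < 7 from hl)]⟩
    · rintro ⟨l, rfl⟩
      exact ⟨l.1, l.2, by rw [al, dif_pos l.2]⟩

end Cfsg.Agent.H83.Held.M24
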