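import Cfsg.Agent.H83.Held.Data
import Cfsg.Agent.H45.CosetPerm

/-!
The table closes.
-/

set_option autoImplicit false
set_option maxRecDepth 100000

namespace Cfsg.Agent.H83.Held.M24

open Cfsg.Agent.H45

theorem close_ok : closeCheck dat 3795 tree blks = true := by decide +kernel

theorem cols_ok : ((List.range 7).all fun l =>
    colOK (dat.cols.getD l 0) (dat.cols.getD l 0) 3795 3795) = true := by decide +kernel

end Cfsg.Agent.H83.Held.M24
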