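import Cfsg.Agent.H83.Held.PointData

/-!
The fusion pattern of a point stabiliser: the elementary group of order 16 is normal in the whole group.
-/

set_option autoImplicit false
set_option maxRecDepth 100000
set_option linter.style.haveILetI false

namespace Cfsg.Agent.H83.Held.Point

open Subgroup Cfsg.Agent.H98.Held

universe u

section Dihedral

variable {G : Type u} [Group G] {x y : G}

theorem xy_inv (hx : x * x = 1) (hy : y * y = 1) : (x * y)⁻¹ = y * x := by
  rw [_root_.mul_inv_rev, inv_eq_of_mul_eq_one_right hx, inv_eq_of_mul_eq_one_right hy]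

theorem x_pow (hx : x * x = 1) (hy : y * y = 1) (j : ℕ) : x * (x * y) ^ j * x = ((x * y) ^ j)⁻¹ := by
  have h : x * (x * y) * x⁻¹ = (x * y)⁻¹ := by
    rw [xy_inv hx hy, inv_eq_of_mul_eq_one_right hx, ← mul_assoc x x y, hx, one_mul]
  have := congrArg (fun g => g ^ j) h
  rw [conj_pow, inv_pow, inv_eq_of_mul_eq_one_right hx] at this
  exact this

theorem even_refl (hx : x * x = 1) (hy : y * y = 1) (j : ℕ) :
    (x * y) ^ j * x * ((x * y) ^ j)⁻¹ = (x * y) ^ (2 * j) * x := by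
  rw [← x_pow hx hy j, two_mul, pow_add]
  rw [show (x * y) ^ j * x * (x * (x * y) ^ j * x) = (x * y) ^ j * (x * x) * (x * y) ^ j * x by group, hx,
    mul_one]

/-- the middle power of a product of two involutions -/
theorem central_inv (hx : x * x = 1) (hy : y * y = 1) {k : ℕ} (hn : orderOf (x * y) = 2 * k)
    (hk : k ≠ 0) :
    let w := (x * y) ^ k
    w * w = 1 ∧ w ≠ 1 ∧ w * x = x * w ∧ w * y = y * w ∧ (IsConj x (w * x) ∨ IsConj x (w * y)) := by
  intro w
  have hw2 : w * w = 1 := by rw [← pow_add, ← two_mul, ← hn, pow_orderOf_eq_one]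
  have hw1 : w ≠ 1 := pow_ne_one_of_lt_orderOf hk (by omega)
  have hwx : w * x = x * w := by
    have h := x_pow hx hy k
    rw [inv_eq_of_mul_eq_one_right hw2] at h
    calc w * x = x * w * x * x := by rw [h]
      _ = x * w := by rw [mul_assoc, hx, mul_one]
  refine ⟨hw2, hw1, hwx, ?_, ?_⟩
  · have hc : w * (x * y) = (x * y) * w := (Commute.pow_self _ k).eq
    calc w * y = w * (x * (x * y)) := by rw [← mul_assoc x x y, hx, one_mul]
      _ = x * w * (x * y) := by rw [← mul_assoc, hwx]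
      _ = x * (x * y * w) := by rw [mul_assoc, hc]
      _ = y * w := by rw [← mul_assoc, ← mul_assoc, hx, one_mul]
  · rcases Nat.even_or_odd' k with ⟨j, e | e⟩
    · refine Or.inl (isConj_iff.2 ⟨(x * y) ^ j, ?_⟩)
      rw [even_refl hx hy j, ← e]
    · refine Or.inr (isConj_iff.2 ⟨(x * y) ^ j, ?_⟩)
      rw [even_refl hx hy j]
      show _ = (x * y) ^ k * y
      rw [e, pow_succ, mul_assoc, mul_assoc x y y, hy, mul_one]

/-- in the odd case the two involutions are conjugate by an element of the group they generate -/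
theorem odd_conj (hx : x * x = 1) (hy : y * y = 1) {j : ℕ} (hn : orderOf (x * y) = 2 * j + 1) :
    (y * (x * y) ^ j) * y * (y * (x * y) ^ j)⁻¹ = x := by
  set t := x * y with ht
  have h1 : t ^ j * y * (t ^ j)⁻¹ = t ^ (2 * j) * y := by
    have h := x_pow hy hx j
    have e : y * x = t⁻¹ := (xy_inv hx hy).symm
    rw [e, inv_pow, inv_inv] at h
    calc t ^ j * y * (t ^ j)⁻¹ = t ^ j * (y * (t ^ j)⁻¹ * y) * y := by
          simp only [mul_assoc, hy, mul_one]
      _ = t ^ (2 * j) * y := by rw [h, two_mul, pow_add]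
  have h2 : t ^ (2 * j) = t⁻¹ := by
    rw [eq_inv_iff_mul_eq_one, ← pow_succ, ← hn, pow_orderOf_eq_one]
  calc y * t ^ j * y * (y * t ^ j)⁻¹ = y * (t ^ j * y * (t ^ j)⁻¹) * y⁻¹ := by group
    _ = x := by
      rw [h1, h2, xy_inv hx hy, inv_eq_of_mul_eq_one_right hy]
      rw [show y * (y * x * y) * y = y * y * x * (y * y) by group, hy, one_mul, mul_one]

end Dihedral

section Main

variable {G : Type u} [Group G] (B : Emb G)

theorem e_closed {a b : ℕ} (ha : a ∈ eList) (hb : b ∈ eList) : mm a b ∈ eList ∧ mm a b = mm b a := by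
  have h := List.all_eq_true.1 (List.all_eq_true.1 e_check.2.1 a ha) b hb
  simp only [Bool.and_eq_true, Nat.beq_eq] at h
  exact ⟨mem_of_any h.1, h.2⟩

theorem e_sq {a : ℕ} (ha : a ∈ eList) : Gd a ∧ mm a a = oneC := by
  have h := List.all_eq_true.1 e_check.2.2.1 a ha
  simp only [Bool.and_eq_true, Nat.beq_eq] at h
  exact ⟨gd_of_gdB h.2, h.1⟩

theorem e_one : oneC ∈ eList := mem_of_any e_check.2.2.2.2.2.1

theorem e_z : zT ∈ eList := mem_of_any e_check.2.2.2.2.2.2.1

/-- the elementary group -/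
noncomputable def eGrp : Subgroup G where
  carrier := {g | ∃ a ∈ eList, B.lf a = g}
  one_mem' := ⟨oneC, e_one, B.lf_one⟩
  mul_mem' := by
    rintro _ _ ⟨a, ha, rfl⟩ ⟨b, hb, rfl⟩
    exact ⟨mm a b, (e_closed ha hb).1, B.lf_mul (e_sq ha).1 (e_sq hb).1⟩
  inv_mem' := by
    rintro _ ⟨a, ha, rfl⟩
    exact ⟨a, ha, eq_inv_iff_mul_eq_one.2 ((B.lf_sq_one (e_sq ha).1).2 (e_sq ha).2)⟩

theorem mem_eGrp {g : G} : g ∈ eGrp B ↔ ∃ a ∈ eList, B.lf a = g := Iff.rfl

theorem lf_mem_eGrp {a : ℕ} (ha : a ∈ eList) : B.lf a ∈ eGrp B := ⟨a, ha, rfl⟩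

theorem z_mem : B.z ∈ eGrp B := ⟨zT, e_z, B.lf_z⟩

theorem eGrp_comm {a b : G} (ha : a ∈ eGrp B) (hb : b ∈ eGrp B) : a * b = b * a := by
  obtain ⟨p, hp, rfl⟩ := ha
  obtain ⟨q, hq, rfl⟩ := hb
  exact (B.lf_comm (e_sq hp).1 (e_sq hq).1).2 (e_closed hp hq).2

theorem eGrp_sq {a : G} (ha : a ∈ eGrp B) : a * a = 1 := by
  obtain ⟨p, hp, rfl⟩ := ha
  exact (B.lf_sq_one (e_sq hp).1).2 (e_sq hp).2

theorem sq_of_isConj {x : G} (h : IsConj B.z x) : x * x = 1 := by
  obtain ⟨g, rfl⟩ := isConj_iff.1 h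
  rw [show g * B.z * g⁻¹ * (g * B.z * g⁻¹) = g * (B.z * B.z) * g⁻¹ by group, B.z_sq]
  group

theorem ne_of_isConj {x : G} (h : IsConj B.z x) : x ≠ 1 := by
  obtain ⟨g, rfl⟩ := isConj_iff.1 h
  exact fun e => B.z_ne (conj_eq_one_iff.1 e)

variable (hm : ∀ k < 8, B.IsZ (rep k) ↔ inK 1 k = true)
include hm

theorem isConj_of_mem {y : G} (hy : y ∈ eGrp B) (h1 : y ≠ 1) : IsConj B.z y := by
  obtain ⟨a, ha, rfl⟩ := hy
  have hne : a ≠ oneC := fun e => h1 (e ▸ B.lf_one)
  obtain ⟨hg, hs⟩ := e_sq ha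
  have h := List.all_eq_true.1 e_check.2.2.2.1 a ha
  simp only [Bool.or_eq_true, Nat.beq_eq] at h
  exact (B.isZ_iff hg hs hne).2 ((hm _ (cls_lt hg hs hne)).2 (h.resolve_left hne))

theorem mem_of_isConj_comm {x : G} (hx : IsConj B.z x) (hc : x * B.z = B.z * x) : x ∈ eGrp B := by
  obtain ⟨p, hp, rfl⟩ := B.exists_code hc
  have hs : mm p p = oneC := (B.lf_sq_one hp).1 (sq_of_isConj B hx)
  have hne : p ≠ oneC := fun e => ne_of_isConj B hx (e ▸ B.lf_one)
  obtain ⟨e, he, rfl⟩ := mem_invTab hp hs hne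
  have hk := (hm _ (cls_lt hp hs hne)).1 ((B.isZ_iff hp hs hne).1 hx)
  rw [(tab_spec he).2.2.2.2.2.2.2] at hk
  have h := List.all_eq_true.1 e_check.2.2.2.2.1 e he
  simp only [hk, Bool.not_true, Bool.false_or] at h
  exact lf_mem_eGrp B (mem_of_any h)

/-- two commuting conjugates have product one or a conjugate -/
theorem mul_conj {a b : G} (ha : IsConj B.z a) (hb : IsConj B.z b) (hc : a * b = b * a) (hne : a * b ≠ 1) :
    IsConj B.z (a * b) := by
  obtain ⟨g, rfl⟩ := isConj_iff.1 ha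
  have hb' : IsConj B.z (g⁻¹ * b * g) := hb.trans (isConj_iff.2 ⟨g⁻¹, by group⟩)
  have hc' : g⁻¹ * b * g * B.z = B.z * (g⁻¹ * b * g) := by
    calc g⁻¹ * b * g * B.z = g⁻¹ * (b * (g * B.z * g⁻¹)) * g := by group
      _ = g⁻¹ * (g * B.z * g⁻¹ * b) * g := by rw [hc]
      _ = B.z * (g⁻¹ * b * g) := by group
  have hmem := mul_mem (z_mem B) (mem_of_isConj_comm B hm hb' hc')
  have e : g * (B.z * (g⁻¹ * b * g)) * g⁻¹ = g * B.z * g⁻¹ * b := by group
  refine (isConj_of_mem B hm hmem fun h => hne ?_).trans (isConj_iff.2 ⟨g, e⟩)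
  rw [← e, h]; group

variable [Finite G]

omit hm in
theorem eq_map_of_le {g : G} (h : ∀ e ∈ eGrp B, g * e * g⁻¹ ∈ eGrp B) :
    (eGrp B).map (MulAut.conj g).toMonoidHom = eGrp B := by
  refine eq_of_le_of_card_ge ?_ ?_
  · rintro _ ⟨e, he, rfl⟩
    exact h e he
  · rw [Nat.card_congr ((eGrp B).equivMapOfInjective (MulAut.conj g).toMonoidHom (MulAut.conj g).injective).toEquiv]

omit hm in
theorem mem_normalizer_of_le {g : G} (h : ∀ e ∈ eGrp B, g * e * g⁻¹ ∈ eGrp B) :
    g ∈ normalizer (eGrp B : Set G) := by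
  refine mem_normalizer_iff.2 fun x => ⟨h x, fun hx => ?_⟩
  have hh := hx
  rw [← eq_map_of_le B h] at hh
  obtain ⟨e, he, ee⟩ := hh
  have : e = x := by
    have h2 : g * e * g⁻¹ = g * x * g⁻¹ := ee
    exact mul_left_cancel (mul_right_cancel h2)
  exact this ▸ he

theorem mem_of_comm {x y : G} (hx : IsConj B.z x) (hy : y ∈ eGrp B) (hy1 : y ≠ 1)
    (hc : x * y = y * x) : x ∈ eGrp B := by
  obtain ⟨g, hg⟩ := isConj_iff.1 (isConj_of_mem B hm hy hy1)
  have hz : g⁻¹ * y * g = B.z := by rw [← hg]; group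
  have key : ∀ v, IsConj B.z v → v * y = y * v → g⁻¹ * v * g ∈ eGrp B := by
    intro v hv hvy
    refine mem_of_isConj_comm B hm (hv.trans (isConj_iff.2 ⟨g⁻¹, by group⟩)) ?_
    rw [← hz]
    calc g⁻¹ * v * g * (g⁻¹ * y * g) = g⁻¹ * (v * y) * g := by group
      _ = g⁻¹ * (y * v) * g := by rw [hvy]
      _ = g⁻¹ * y * g * (g⁻¹ * v * g) := by group
  have hle : ∀ e ∈ eGrp B, g⁻¹ * e * g⁻¹⁻¹ ∈ eGrp B := by
    intro e he
    rw [inv_inv]
    rcases eq_or_ne e 1 with rfl | h1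
    · simp
    · exact key e (isConj_of_mem B hm he h1) (eGrp_comm B he hy)
  have hn := mem_normalizer_of_le B hle
  refine (mem_normalizer_iff.1 hn x).2 ?_
  rw [inv_inv]
  exact key x hx hc

theorem mem_normalizer_of_one {g y : G} (hy : y ∈ eGrp B) (hy1 : y ≠ 1) (h : g * y * g⁻¹ ∈ eGrp B) :
    g ∈ normalizer (eGrp B : Set G) := by
  refine mem_normalizer_of_le B fun e he => ?_
  rcases eq_or_ne e 1 with rfl | h1
  · simp
  refine mem_of_comm B hm ((isConj_of_mem B hm he h1).trans (isConj_iff.2 ⟨g, rfl⟩)) h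
    (fun hh => hy1 (conj_eq_one_iff.1 hh)) ?_
  rw [show g * e * g⁻¹ * (g * y * g⁻¹) = g * (e * y) * g⁻¹ by group, eGrp_comm B he hy]
  group

theorem mem_of_normalizes {x : G} (hx : IsConj B.z x) (hn : x ∈ normalizer (eGrp B : Set G)) :
    x ∈ eGrp B := by
  have hxx := sq_of_isConj B hx
  have hi : x⁻¹ = x := inv_eq_of_mul_eq_one_right hxx
  have hzx : x * B.z * x ∈ eGrp B := by
    have := (mem_normalizer_iff.1 hn B.z).1 (z_mem B)
    rwa [hi] at this
  rcases eq_or_ne (B.z * (x * B.z * x)) 1 with h | h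
  · refine mem_of_comm B hm hx (z_mem B) B.z_ne ?_
    have e : x * B.z * x = B.z := by
      rw [← inv_eq_of_mul_eq_one_right h, inv_eq_of_mul_eq_one_right B.z_sq]
    calc x * B.z = x * B.z * (x * x) := by rw [hxx, mul_one]
      _ = B.z * x := by rw [← mul_assoc, e]
  · refine mem_of_comm B hm hx (mul_mem (z_mem B) hzx) h ?_
    have hc := eGrp_comm B (z_mem B) hzx
    calc x * (B.z * (x * B.z * x)) = x * B.z * x * B.z * x := by simp only [mul_assoc]
      _ = x * B.z * x * B.z * x := rfl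
      _ = B.z * (x * B.z * x) * x := by rw [← hc]

/-- a conjugate outside and a member of the group have product of odd order -/
theorem odd_order {x y : G} (hx : IsConj B.z x) (hxE : x ∉ eGrp B) (hy : y ∈ eGrp B) (hy1 : y ≠ 1) :
    Odd (orderOf (x * y)) := by
  rw [← Nat.not_even_iff_odd]
  rintro ⟨k, hk⟩
  have hyy := eGrp_sq B hy
  have hk0 : k ≠ 0 := by
    rintro rfl
    exact (orderOf_pos (x * y)).ne' (by simpa using hk)
  obtain ⟨hw2, hw1, hwx, hwy, h⟩ :=
    central_inv (k := k) (sq_of_isConj B hx) hyy (by rw [hk, two_mul]) hk0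
  set w := (x * y) ^ k
  have hwE : w ∈ eGrp B := by
    rcases h with h | h
    · have hwZ : IsConj B.z (w * x * x) := mul_conj B hm (hx.trans h) hx
        (by rw [← mul_assoc x w x, ← hwx])
        (by rw [mul_assoc, sq_of_isConj B hx, mul_one]; exact hw1)
      rw [mul_assoc, sq_of_isConj B hx, mul_one] at hwZ
      exact mem_of_comm B hm hwZ hy hy1 hwy
    · have h2 := mem_of_comm B hm (hx.trans h) hy hy1
        (by rw [mul_assoc, hyy, ← mul_assoc, ← hwy, mul_assoc, hyy])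
      have h3 := mul_mem h2 hy
      rwa [mul_assoc, hyy, mul_one] at h3
  exact hxE (mem_of_comm B hm hx hwE hw1 hwx.symm)

/-- conjugates commuting with a suitable involution of the normaliser lie in the group -/
theorem good {u e b : G} (hu : ∀ v ∈ eGrp B, u * v * u⁻¹ ∈ eGrp B) (hu2 : u * u = 1)
    (he : e ∈ eGrp B) (hb : b ∈ eGrp B) (hb1 : b ≠ 1) (hbc : u * b = b * u)
    (hne : e * (u * e * u⁻¹) ≠ 1) (hni : ∀ v ∈ eGrp B, v * (u * v * u⁻¹) ≠ b)
    {x : G} (hx : IsConj B.z x) (hc : x * u = u * x) : x ∈ eGrp B := by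
  by_contra hxE
  have hi : u⁻¹ = u := inv_eq_of_mul_eq_one_right hu2
  set a := e * (u * e * u⁻¹) with hadef
  have ha : a ∈ eGrp B := mul_mem he (hu e he)
  have hac : u * a = a * u := by
    have h1 : u * a * u⁻¹ = a := by
      rw [hadef, eGrp_comm B he (hu e he), hi]
      calc u * (u * e * u * e) * u = u * u * (e * (u * e * u)) := by simp only [mul_assoc]
        _ = u * e * u * e := by
          rw [hu2, one_mul]
          have := eGrp_comm B he (hu e he)
          rwa [hi] at this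
    calc u * a = u * a * u⁻¹ * u := by group
      _ = a * u := by rw [h1]
  have key : ∀ c ∈ eGrp B, c ≠ 1 → u * c = c * u →
      ∃ d : G, d * c * d⁻¹ = x ∧ u * d = d * u := by
    intro c hcE hc1 hcu
    obtain ⟨j, hj⟩ := odd_order B hm hx hxE hcE hc1
    refine ⟨c * (x * c) ^ j, odd_conj (sq_of_isConj B hx) (eGrp_sq B hcE) hj, ?_⟩
    have hxc : Commute u (x * c) := Commute.mul_right (show Commute u x from hc.symm) hcu
    exact (Commute.mul_right (show Commute u c from hcu) (hxc.pow_right j)).eq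
  obtain ⟨d1, hd1, hd1u⟩ := key a ha hne hac
  obtain ⟨d2, hd2, hd2u⟩ := key b hb hb1 hbc
  set d := d2⁻¹ * d1
  have hdab : d * a * d⁻¹ = b := by
    calc d * a * d⁻¹ = d2⁻¹ * (d1 * a * d1⁻¹) * d2 := by simp only [d]; group
      _ = b := by rw [hd1, ← hd2]; group
  have hdu : u * d = d * u :=
    (Commute.mul_right (Commute.inv_right (show Commute u d2 from hd2u)) (show Commute u d1 from hd1u)).eq
  have hdn : d ∈ normalizer (eGrp B : Set G) := mem_normalizer_of_one B hm ha hne (hdab.symm ▸ hb)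
  refine hni _ ((mem_normalizer_iff.1 hdn e).1 he) ?_
  rw [← hdab, hadef]
  calc d * e * d⁻¹ * (u * (d * e * d⁻¹) * u⁻¹)
      = d * e * d⁻¹ * (u * d * e * (u * d)⁻¹) := by group
    _ = d * e * d⁻¹ * (d * u * e * (d * u)⁻¹) := by rw [hdu]
    _ = d * (e * (u * e * u⁻¹)) * d⁻¹ := by group

/-- **The elementary group is normal.** -/
theorem normalizer_eq_top : normalizer (eGrp B : Set G) = ⊤ := by
  obtain ⟨hug, hu2, hunot, hucz, hune, huni⟩ := u_check
  rw [Nat.beq_eq] at hu2 hucz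
  have hug := gd_of_gdB hug
  set u := B.lf uCode with hudef
  have hu2' : u * u = 1 := (B.lf_sq_one hug).2 hu2
  have huc : u * B.z = B.z * u := by
    rw [hudef, ← B.lf_z, B.lf_comm hug gd_zT]; exact hucz
  have hun : u ∈ normalizer (eGrp B : Set G) :=
    mem_normalizer_of_one B hm (z_mem B) B.z_ne
      (by rw [huc, mul_assoc, mul_inv_cancel, mul_one]; exact z_mem B)
  have huE : u ∉ eGrp B := by
    rintro ⟨a, ha, e⟩
    rw [B.lf_inj (e_sq ha).1 hug e] at ha
    have : memE uCode = true := any_of_mem ha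
    rw [hunot] at this
    exact absurd this (by simp)
  have hu : ∀ v ∈ eGrp B, u * v * u⁻¹ ∈ eGrp B := fun v hv => (mem_normalizer_iff.1 hun v).1 hv
  have h4 : oneC + 4 ∈ eList := mem_of_any (List.all_eq_true.1 e_check.2.2.2.2.2.2.2 _ (by simp [eBas]))
  have hlf : ∀ a ∈ eList, B.lf a * (u * B.lf a * u⁻¹) = B.lf (mm a (mm (mm uCode a) uCode)) := by
    intro a ha
    obtain ⟨hg, -⟩ := e_sq ha
    rw [B.lf_mul hg ((hug.mul hg).mul hug), B.lf_mul (hug.mul hg) hug, B.lf_mul hug hg,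
      inv_eq_of_mul_eq_one_right hu2']
  have hgd : ∀ a ∈ eList, Gd (mm a (mm (mm uCode a) uCode)) := fun a ha =>
    (e_sq ha).1.mul ((hug.mul (e_sq ha).1).mul hug)
  have hne : B.lf (oneC + 4) * (u * B.lf (oneC + 4) * u⁻¹) ≠ 1 := by
    rw [hlf _ h4, Ne, B.lf_eq_one (hgd _ h4)]
    intro e
    rw [Bool.not_eq_true', beq_ne] at hune
    exact hune e
  have hni : ∀ v ∈ eGrp B, v * (u * v * u⁻¹) ≠ B.z := by
    rintro _ ⟨a, ha, rfl⟩ e
    rw [hlf a ha, ← B.lf_z] at e
    have := List.all_eq_true.1 huni a ha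
    rw [Bool.not_eq_true', beq_ne] at this
    exact this (B.lf_inj (hgd a ha) gd_zT e)
  have hgood : ∀ c ∈ eGrp B, u * c = c * u → ∀ x, IsConj B.z x → x * (c * u) = c * u * x → x ∈ eGrp B := by
    intro c hc hcu x hx hcomm
    have hcc := eGrp_sq B hc
    have hsame : ∀ v ∈ eGrp B, c * u * v * (c * u)⁻¹ = u * v * u⁻¹ := by
      intro v hv
      calc c * u * v * (c * u)⁻¹ = c * (u * v * u⁻¹) * c⁻¹ := by group
        _ = u * v * u⁻¹ := by rw [eGrp_comm B hc (hu v hv)]; group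
    refine good B hm (u := c * u) (e := B.lf (oneC + 4)) (b := B.z) (fun v hv => ?_) ?_
      (lf_mem_eGrp B h4) (z_mem B) B.z_ne ?_ ?_ ?_ hx hcomm
    · rw [hsame v hv]; exact hu v hv
    · calc c * u * (c * u) = c * (u * c) * u := by group
        _ = c * c * (u * u) := by rw [hcu]; group
        _ = 1 := by rw [hcc, hu2', mul_one]
    · rw [mul_assoc, huc, ← mul_assoc, eGrp_comm B hc (z_mem B), mul_assoc]
    · rw [hsame _ (lf_mem_eGrp B h4)]; exact hne
    · intro v hv; rw [hsame v hv]; exact hni v hv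
  have hgood1 : ∀ x, IsConj B.z x → x * u = u * x → x ∈ eGrp B := fun x hx hc =>
    hgood 1 (one_mem _) (by simp) x hx (by simpa using hc)
  rw [eq_top_iff]
  intro g _
  by_contra hg
  set x := g * B.z * g⁻¹
  have hx : IsConj B.z x := isConj_iff.2 ⟨g, rfl⟩
  have hxE : x ∉ eGrp B := fun h => hg (mem_normalizer_of_one B hm (z_mem B) B.z_ne h)
  have huZ : ¬ IsConj B.z u := fun h => huE (mem_of_normalizes B hm h hun)
  have hxx := sq_of_isConj B hx
  rcases Nat.even_or_odd (orderOf (x * u)) with ⟨k, hk⟩ | ⟨j, hj⟩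
  · have hk0 : k ≠ 0 := by
      rintro rfl
      exact (orderOf_pos (x * u)).ne' (by simpa using hk)
    obtain ⟨hw2, hw1, hwx, hwu, h⟩ := central_inv (k := k) hxx hu2' (by rw [hk, two_mul]) hk0
    set w := (x * u) ^ k
    rcases h with h | h
    · have hwZ : IsConj B.z (w * x * x) := mul_conj B hm (hx.trans h) hx
        (by rw [← mul_assoc x w x, ← hwx]) (by rw [mul_assoc, hxx, mul_one]; exact hw1)
      rw [mul_assoc, hxx, mul_one] at hwZ
      exact hxE (mem_of_comm B hm hx (hgood1 w hwZ hwu) hw1 hwx.symm)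
    · have hcE := hgood1 (w * u) (hx.trans h) (by rw [mul_assoc, hu2', ← mul_assoc, ← hwu, mul_assoc, hu2'])
      have hcu : u * (w * u) = w * u * u := by rw [← mul_assoc, ← hwu]
      refine hxE (hgood (w * u) hcE hcu x hx ?_)
      rw [mul_assoc w u u, hu2', mul_one]
      exact hwx.symm
  · exact huZ (hx.trans (isConj_iff.2 ⟨_, odd_conj hxx hu2' hj⟩).symm)

end Main

end Cfsg.Agent.H83.Held.Point
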