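import Cfsg.Agent.H98.Held.Basic
import Cfsg.Agent.H98.Held.ClassTables

/-!
The elementary group of transvections with a common centre inside the centraliser of the transvection.
-/

set_option autoImplicit false
set_option maxRecDepth 100000

namespace Cfsg.Agent.H83.Held.Point

open Cfsg.Agent.H98.Held
open Cfsg.Agent.H45 (force)

/-- the sixteen elements -/
def eList : List ℕ := (List.range 16).map fun i => oneC + 2 * i

/-- the basis -/
def eBas : List ℕ := [oneC + 2, oneC + 4, oneC + 8, oneC + 16]

/-- membership -/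
def memE (a : ℕ) : Bool := eList.any fun b => Nat.beq b a

theorem e_check : eList.Nodup ∧
    (eList.all fun a => eList.all fun b => memE (mm a b) && Nat.beq (mm a b) (mm b a)) = true ∧
    (eList.all fun a => Nat.beq (mm a a) oneC && gdB a a) = true ∧
    (eList.all fun a => Nat.beq a oneC || inK 1 (cls a)) = true ∧
    (invTab.all fun e => !(inK 1 e.2.1) || memE e.1) = true ∧
    memE oneC = true ∧ memE zT = true ∧ (eBas.all memE) = true := by
  decide +kernel

/-- an involution normalising the group, not in it -/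
def uCode : ℕ := 4472897

theorem u_check : gdB uCode uCode = true ∧ Nat.beq (mm uCode uCode) oneC = true ∧ memE uCode = false ∧
    Nat.beq (mm uCode zT) (mm zT uCode) = true ∧
    (!(Nat.beq (mm (oneC + 4) (mm (mm uCode (oneC + 4)) uCode)) oneC)) = true ∧
    (eList.all fun a => !(Nat.beq (mm a (mm (mm uCode a) uCode)) zT)) = true := by
  decide +kernel

theorem cent_e_check : ((List.range 65536).all fun k => force (param k) fun p =>
    !(eBas.all fun b => Nat.beq (mm p b) (mm b p)) || memE p) = true := by
  decide +kernel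

/-- a matrix moving the basis to prescribed elements, by rows -/
def mCode (a2 a3 a4 : ℕ) : ℕ :=
  1 + 32 * 2 + 1024 * (a2 % 32 - 1) + 32768 * (a3 % 32 - 1) + 1048576 * (a4 % 32 - 1)

/-- square and multiply -/
noncomputable def powN (a : ℕ) : ℕ :=
  force (mm a a) fun p2 => force (mm p2 p2) fun p4 => force (mm p4 p4) fun p8 =>
    force (mm p8 p8) fun p16 => force (mm p16 p16) fun p32 => force (mm p32 p32) fun p64 =>
      force (mm p64 p64) fun p128 =>
        mm (mm (mm (mm a p2) p4) p32) p128

/-- the elements are independent -/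
noncomputable def indep (a2 a3 a4 : ℕ) : Bool :=
  !(Nat.beq a2 oneC) && !(Nat.beq a2 zT) &&
    !(Nat.beq a3 oneC) && !(Nat.beq a3 zT) && !(Nat.beq a3 a2) && !(Nat.beq a3 (mm zT a2)) &&
    !(Nat.beq a4 oneC) && !(Nat.beq a4 zT) && !(Nat.beq a4 a2) && !(Nat.beq a4 (mm zT a2)) &&
    !(Nat.beq a4 a3) && !(Nat.beq a4 (mm zT a3)) && !(Nat.beq a4 (mm a2 a3)) &&
    !(Nat.beq a4 (mm (mm zT a2) a3))

theorem move_check : (eList.all fun a2 => eList.all fun a3 => eList.all fun a4 =>
    !(indep a2 a3 a4) || force (mCode a2 a3 a4) fun m =>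
      gdB m (powN m) && Nat.beq (m % 32) 1 &&
        Nat.beq (mm zT m) (mm m zT) && Nat.beq (mm (oneC + 4) m) (mm m a2) &&
        Nat.beq (mm (oneC + 8) m) (mm m a3) && Nat.beq (mm (oneC + 16) m) (mm m a4)) = true := by
  decide +kernel

theorem span_check : (eList.all fun a => ([oneC, oneC + 2].any fun b1 => [oneC, oneC + 4].any fun b2 =>
    [oneC, oneC + 8].any fun b3 => [oneC, oneC + 16].any fun b4 =>
      Nat.beq (mm (mm (mm b1 b2) b3) b4) a)) = true := by
  decide +kernel

end Cfsg.Agent.H83.Held.Point
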